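import Groth.Agent.Ega2Proj.FieldNormalization
import Groth.Agent.Calg4.Japanese
import Groth.Agent.Calg1.NagataTheorem
import Mathlib.AlgebraicGeometry.Morphisms.Finite
import Mathlib.RingTheory.DedekindDomain.Basic

/-!
# Normalization of an integral curve in a finite extension of its function field
-/

universe u

open CategoryTheory AlgebraicGeometry IsLocalRing TopologicalSpace

namespace Groth.CurveNorm

theorem isNagata_field (k : Type u) [Field k] : CAlg.IsNagata k := by
  refine ⟨inferInstance, fun p hp ↦ ?_⟩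
  obtain rfl : p = ⊥ := (Ideal.eq_bot_or_top p).resolve_right hp.ne_top
  exact Groth.Calg2.CompleteNagata.isN2_of_ringEquiv (RingEquiv.quotientBot k).symm
    (Groth.Calg2.CompleteNagata.isN2_field k)

variable (X : Scheme.{u}) [IsIntegral X] (K : Type u) [Field K] (φ : X.functionField →+* K)
  (g : Spec (CommRingCat.of K) ⟶ X)
  (hg : g = Spec.map (CommRingCat.ofHom φ) ≫ X.fromSpecStalk (genericPoint X))
  [QuasiCompact g] [QuasiSeparated g]

include hg in
/-- The ring of an affine open of the normalization. -/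
theorem exists_equiv_integralClosure {U : X.Opens} (hU : IsAffineOpen U) (hξ : genericPoint X ∈ U) :
    letI : Algebra Γ(X, U) K := (φ.comp (X.presheaf.germ U (genericPoint X) hξ).hom).toAlgebra
    ∃ e : Γ(g.normalization, g.fromNormalization ⁻¹ᵁ U) ≃+* integralClosure Γ(X, U) K,
      ∀ a, e ((g.fromNormalization.app U).hom a) = algebraMap Γ(X, U) _ a := by
  letI : Algebra Γ(X, U) K := (φ.comp (X.presheaf.germ U (genericPoint X) hξ).hom).toAlgebra
  haveI : Nonempty ((g.fromNormalization ⁻¹ᵁ U : g.normalization.Opens) : Scheme.{u}) :=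
    ⟨⟨_, Ega2Proj.mem_preimage X K φ g hg hξ⟩⟩
  let k := (g.normalization.presheaf.germ (g.fromNormalization ⁻¹ᵁ U)
    (g.toNormalization.base (closedPoint K)) (Ega2Proj.mem_preimage X K φ g hg hξ) ≫
    Scheme.stalkClosedPointTo g.toNormalization).hom
  have hinj : Function.Injective k :=
    (Ega2Proj.stalkClosedPointTo_toNormalization_injective X K g).comp
      (germ_injective_of_isIntegral g.normalization _ _)
  have hrange : ∀ z, k z ∈ (integralClosure Γ(X, U) K).toSubring := fun z =>
    (Ega2Proj.exists_sections_equiv X K φ g hg hU hξ (k z)).mp ⟨z, rfl⟩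
  let e : Γ(g.normalization, g.fromNormalization ⁻¹ᵁ U) ≃+* integralClosure Γ(X, U) K :=
    RingEquiv.ofBijective (k.codRestrict (integralClosure Γ(X, U) K) hrange)
      ⟨fun a b hab => hinj (congrArg Subtype.val hab), fun z => by
        obtain ⟨b, hb⟩ := (Ega2Proj.exists_sections_equiv X K φ g hg hU hξ z.1).mpr z.2
        exact ⟨b, Subtype.ext hb⟩⟩
  have hcomp : g.fromNormalization.app U ≫ g.normalization.presheaf.germ (g.fromNormalization ⁻¹ᵁ U)
      (g.toNormalization.base (closedPoint K)) (Ega2Proj.mem_preimage X K φ g hg hξ) ≫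
      Scheme.stalkClosedPointTo g.toNormalization =
        X.presheaf.germ U (genericPoint X) hξ ≫ CommRingCat.ofHom φ := by
    refine (Scheme.Hom.germ_stalkMap_assoc g.fromNormalization U (g.toNormalization.base (closedPoint K))
      (Ega2Proj.mem_preimage X K φ g hg hξ) (Scheme.stalkClosedPointTo g.toNormalization)).symm.trans ?_
    refine Ega2Proj.germ_comp_eq_of_SpecMap_eq
      (Ega2Proj.fromNormalization_toNormalization_closedPoint X K φ g hg) _ _ ?_ U _ hξ
    rw [Spec.map_comp, Category.assoc, Scheme.SpecMap_stalkMap_fromSpecStalk,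
      Scheme.Spec_stalkClosedPointTo_fromSpecStalk_assoc, g.toNormalization_fromNormalization]
    exact hg
  exact ⟨e, fun a => Subtype.ext (congr($hcomp a))⟩

theorem genericPoint_mem (U : X.Opens) (hU : Nonempty U) : genericPoint X ∈ U :=
  ((genericPoint_spec X).mem_open_set_iff U.isOpen).mpr (by simpa using hU)

variable (k : Type u) [Field k] (π : X ⟶ Spec (CommRingCat.of k)) [LocallyOfFiniteType π]

include hg in
theorem isFinite_fromNormalization (hπ : LocallyOfFiniteType π) (hφ : φ.Finite) :
    IsFinite g.fromNormalization := by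
  refine { finite_app := fun U hU => ?_ }
  rcases isEmpty_or_nonempty U with hemp | hne
  · have hsub : Subsingleton Γ(g.normalization, g.fromNormalization ⁻¹ᵁ U) := by
      rw [show g.fromNormalization ⁻¹ᵁ U = ⊥ from eq_bot_iff.2 fun z hz =>
        (hemp.false ⟨g.fromNormalization z, hz⟩).elim]
      infer_instance
    exact RingHom.Finite.of_surjective _ fun b => ⟨0, Subsingleton.elim _ _⟩
  · haveI : Nonempty (U : Scheme.{u}) := hne
    have hξ : genericPoint X ∈ U := genericPoint_mem X U hne
    letI aA : Algebra Γ(X, U) K := (φ.comp (X.presheaf.germ U (genericPoint X) hξ).hom).toAlgebra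
    letI aF : Algebra X.functionField K := φ.toAlgebra
    haveI : IsScalarTower Γ(X, U) X.functionField K := IsScalarTower.of_algebraMap_eq fun _ => rfl
    haveI : Module.Finite X.functionField K := hφ
    haveI := functionField_isFractionRing_of_isAffineOpen X U hU
    letI : Algebra k Γ(X, U) :=
      (CommRingCat.Hom.hom ((Scheme.ΓSpecIso (CommRingCat.of k)).inv ≫ π.appLE ⊤ U le_top)).toAlgebra
    haveI : Algebra.FiniteType k Γ(X, U) := by
      refine RingHom.finiteType_algebraMap.1 ?_
      refine RingHom.FiniteType.comp (π.finiteType_appLE (isAffineOpen_top _) hU le_top) ?_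
      exact RingHom.FiniteType.of_surjective _
        (ConcreteCategory.bijective_of_isIso (Scheme.ΓSpecIso (CommRingCat.of k)).inv).2
    have hN2 : CAlg.IsN2 Γ(X, U) :=
      Groth.Calg1.isN2_self_of_isNagata (Groth.Calg1.isNagata_of_finiteType (isNagata_field k))
    haveI hfin : Module.Finite Γ(X, U) (integralClosure Γ(X, U) K) :=
      Groth.Calg4.finite_ic_of_isN2 hN2 X.functionField K
    obtain ⟨e, he⟩ := exists_equiv_integralClosure X K φ g hg hU hξ
    have : (g.fromNormalization.app U).hom =
        e.symm.toRingHom.comp (algebraMap Γ(X, U) (integralClosure Γ(X, U) K)) := by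
      ext a
      exact (e.symm_apply_eq.2 (he a).symm).symm
    rw [this]
    exact RingHom.Finite.comp (RingHom.Finite.of_surjective _ e.symm.surjective)
      (RingHom.finite_algebraMap.mpr hfin)

theorem dimensionLEOne_affine (hπ : LocallyOfFiniteType π)
    (hX : ∀ x : X, IsClosed ({x} : Set X) → ringKrullDim (X.presheaf.stalk x) = 1)
    {U : X.Opens} (hU : IsAffineOpen U) : Ring.DimensionLEOne Γ(X, U) := by
  have : JacobsonSpace X := LocallyOfFiniteType.jacobsonSpace π
  refine ⟨fun {P} hP0 hP => ?_⟩
  obtain ⟨M, hM, hPM⟩ := Ideal.exists_le_maximal P hP.ne_top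
  rcases hPM.lt_or_eq with hlt | rfl
  swap; · exact hM
  exfalso
  let q : Spec Γ(X, U) := ⟨M, hM.isPrime⟩
  have hclq : q ∈ closedPoints (Spec Γ(X, U)) :=
    (PrimeSpectrum.isClosed_singleton_iff_isMaximal _).2 hM
  have hq : hU.fromSpec.base q ∈ closedPoints X :=
    (Set.ext_iff.1 hU.fromSpec.isOpenEmbedding.preimage_closedPoints q).2 hclq
  have hxU : hU.fromSpec.base q ∈ U := hU.range_fromSpec.le ⟨q, rfl⟩
  letI := TopCat.Presheaf.algebra_section_stalk X.presheaf (⟨_, hxU⟩ : U)
  haveI : IsLocalization.AtPrime (X.presheaf.stalk (hU.fromSpec.base q)) M :=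
    hU.isLocalization_stalk' q hxU
  have hd := hX _ hq
  rw [IsLocalization.AtPrime.ringKrullDim_eq_height M] at hd
  have h1 : M.height ≤ (1 : ℕ) := by
    have : M.height = 1 := by exact_mod_cast hd
    exact_mod_cast this.le
  have := hM.isPrime
  have h2 : P.height < (1 : ℕ) := Ideal.height_le_iff.1 h1 P hP hlt
  have : Nonempty (U : Scheme.{u}) := ⟨⟨_, hxU⟩⟩
  have : (⊥ : Ideal Γ(X, U)).FiniteHeight := ⟨Or.inr (by simp [Ideal.height_bot])⟩
  have h3 : (⊥ : Ideal Γ(X, U)).height < P.height :=
    Ideal.height_strict_mono_of_isPrime (bot_lt_iff_ne_bot.2 hP0)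
  exact absurd (Order.one_le_iff_pos.2 (pos_of_gt h3)) (not_le.2 (by exact_mod_cast h2))

include hg in
theorem ringKrullDim_stalk_eq_one (hπ : LocallyOfFiniteType π) (hφ : φ.Finite)
    (hX : ∀ x : X, IsClosed ({x} : Set X) → ringKrullDim (X.presheaf.stalk x) = 1)
    (x' : g.normalization) (hx' : IsClosed ({x'} : Set g.normalization)) :
    ringKrullDim (g.normalization.presheaf.stalk x') = 1 := by
  obtain ⟨U, hU, hxU, -⟩ := exists_isAffineOpen_mem_and_subset (x := g.fromNormalization.base x')
    (U := (⊤ : X.Opens)) trivial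
  have hξ : genericPoint X ∈ U := ((genericPoint_spec X).specializes trivial).mem_open U.2 hxU
  haveI : Nonempty (U : Scheme.{u}) := ⟨⟨_, hξ⟩⟩
  letI aA : Algebra Γ(X, U) K := (φ.comp (X.presheaf.germ U (genericPoint X) hξ).hom).toAlgebra
  obtain ⟨e, -⟩ := exists_equiv_integralClosure X K φ g hg hU hξ
  have := dimensionLEOne_affine X k π hπ hX hU
  let V := g.fromNormalization ⁻¹ᵁ U
  have hV : IsAffineOpen V := hU.preimage _
  haveI : Nonempty (V : Scheme.{u}) := ⟨⟨x', hxU⟩⟩
  haveI hdimB : Ring.DimensionLEOne Γ(g.normalization, V) := ⟨fun {P} hP0 hP => by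
    have hprime : (P.map e).IsPrime := Ideal.map_isPrime_of_equiv e
    have hne : P.map e ≠ ⊥ := by
      rwa [Ne, Ideal.map_eq_bot_iff_of_injective e.injective]
    have := hprime.isMaximal hne
    rw [← Ideal.comap_map_of_bijective e e.bijective (I := P)]
    exact Ideal.comap_isMaximal_of_surjective _ e.surjective⟩
  letI := TopCat.Presheaf.algebra_section_stalk g.normalization.presheaf (⟨x', hxU⟩ : V)
  haveI := hV.isLocalization_stalk ⟨x', hxU⟩
  let Q := (hV.primeIdealOf ⟨x', hxU⟩).asIdeal
  rw [IsLocalization.AtPrime.ringKrullDim_eq_height Q]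
  have hQ0 : Q ≠ ⊥ := by
    intro h0
    have hgen : x' = genericPoint g.normalization := by
      have hηV : genericPoint g.normalization ∈ V :=
        ((genericPoint_spec g.normalization).specializes trivial).mem_open V.2 hxU
      have : IsAffine (V : Scheme.{u}) := hV
      have h3 : hV.primeIdealOf ⟨x', hxU⟩ = hV.primeIdealOf ⟨_, hηV⟩ := PrimeSpectrum.ext <| by
        rw [hV.primeIdealOf_genericPoint, genericPoint_eq_bot_of_affine]
        exact h0
      simpa [IsAffineOpen.fromSpec_primeIdealOf] using congrArg (fun p => hV.fromSpec.base p) h3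
    have hfin := isFinite_fromNormalization X K φ g hg k π hπ hφ
    have hcl : IsClosed ({genericPoint X} : Set X) := by
      rw [← Ega2Proj.fromNormalization_genericPoint X K φ g hg, ← hgen]
      have := g.fromNormalization.isClosedMap _ hx'
      rwa [Set.image_singleton] at this
    have h := hX _ hcl
    rw [ringKrullDim_eq_zero_of_isField (Field.toIsField X.functionField)] at h
    exact zero_ne_one h
  have h1 : Q.height ≤ (1 : ℕ) := by
    rw [Ideal.height_le_iff]
    intro P hP hPQ
    by_cases hP0 : P = ⊥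
    · subst hP0
      simp [Ideal.height_bot]
    · exact absurd ((hP.isMaximal hP0).eq_of_le (Ideal.IsPrime.ne_top inferInstance) hPQ.le) hPQ.ne
  have : (⊥ : Ideal Γ(g.normalization, V)).FiniteHeight := ⟨Or.inr (by simp [Ideal.height_bot])⟩
  have h2 : (⊥ : Ideal Γ(g.normalization, V)).height < Q.height :=
    Ideal.height_strict_mono_of_isPrime (bot_lt_iff_ne_bot.2 hQ0)
  have : Q.height = 1 := le_antisymm (by exact_mod_cast h1) (Order.one_le_iff_pos.2 (pos_of_gt h2))
  exact_mod_cast this

end Groth.CurveNorm
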